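import Groth.Agent.ResProp.EF.K940.QLoc
import Groth.Agent.ResProp.EF.K408.Proj
import Groth.Agent.ResProp.EF.K929.LocFin

/-!
# Seam LOC, end: hits over `ℤ_(q)` give `Hq` and `HqFg` of helper353 for `Comod A`
-/

set_option autoImplicit false
set_option linter.dupNamespace false
set_option linter.style.haveILetI false
set_option backward.isDefEq.respectTransparency false

open CategoryTheory CategoryTheory.Limits Opposite HomologicalComplex

namespace Groth.Agent.ResProp.EF.K940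

open EF56 K784.BC K784.PM NAffine784 K353 Groth.Agent.ResProp.EF.K294

universe u

section hom

variable {C D : Type*} [Category C] [Category D] [Abelian C] [Abelian D] (F : C ⥤ D) [F.Additive]
  [PreservesFiniteLimits F] [PreservesFiniteColimits F]

/-- cohomology commutes with exact functors -/
noncomputable def homIso (i : ℤ) : F.mapHomologicalComplex (ComplexShape.up ℤ) ⋙ homologyFunctor D (ComplexShape.up ℤ) i ≅
    homologyFunctor C (ComplexShape.up ℤ) i ⋙ F :=
  NatIso.ofComponents (fun K => (K.sc i).mapHomologyIso F)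
    (fun f => ShortComplex.mapHomologyIso_hom_naturality ((shortComplexFunctor C (ComplexShape.up ℤ) i).map f) F)

end hom

section comp

variable {C D E D' : Type*} [Category C] [Category D] [Category E] [Category D'] [Abelian C] [Abelian D] [Abelian E] [Abelian D']

/-- complexes and compositions -/
noncomputable def compIso (F : C ⥤ D) (G : D ⥤ E) [F.Additive] [G.Additive] :
    F.mapHomologicalComplex (ComplexShape.up ℤ) ⋙ G.mapHomologicalComplex (ComplexShape.up ℤ) ≅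
      (F ⋙ G).mapHomologicalComplex (ComplexShape.up ℤ) := Iso.refl _

/-- complexes and commutative squares of functors -/
noncomputable def sqIso (F : C ⥤ D) (G : D ⥤ E) (F' : C ⥤ D') (G' : D' ⥤ E) [F.Additive] [G.Additive] [F'.Additive]
    [G'.Additive] (e : F ⋙ G ≅ F' ⋙ G') :
    F.mapHomologicalComplex (ComplexShape.up ℤ) ⋙ G.mapHomologicalComplex (ComplexShape.up ℤ) ≅
      F'.mapHomologicalComplex (ComplexShape.up ℤ) ⋙ G'.mapHomologicalComplex (ComplexShape.up ℤ) :=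
  compIso F G ≪≫ NatIso.mapHomologicalComplex e _ ≪≫ (compIso F' G').symm

end comp

variable {A B : NFᵒᵖ ⥤ CommRingCat.{u}} {j : A ⟶ B} [Fact (GR A)] [Fact (GR B)]

/-- base change of complexes along `j_0` -/
noncomputable def extL (j : A ⟶ B) (L : CM (A.obj (op ⟨0⟩))) : CM (B.obj (op ⟨0⟩)) :=
  letI := (jh j ⟨0⟩).toAlgebra
  (K408.extC (A.obj (op ⟨0⟩)) (B.obj (op ⟨0⟩))).obj L

/-- restriction of complexes along `j_0` -/
noncomputable abbrev rsC (j : A ⟶ B) : CM (B.obj (op ⟨0⟩)) ⥤ CM (A.obj (op ⟨0⟩)) :=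
  (ModuleCat.restrictScalars (jh j ⟨0⟩)).mapHomologicalComplex (ComplexShape.up ℤ)

/-- the projection formula -/
noncomputable def projJ (j : A ⟶ B) (L : CM (A.obj (op ⟨0⟩))) : rsC j ⋙ tensR L ≅ tensR (extL j L) ⋙ rsC j :=
  letI := (jh j ⟨0⟩).toAlgebra
  K408.projNat (S := B.obj (op ⟨0⟩)) L

/-- `v^* j_* = res v^*` on complexes -/
noncomputable def vIso (hj : CartHom j) : (resC hj).mapHomologicalComplex (ComplexShape.up ℤ) ⋙ vC (vst A) ≅
    vC (vst B) ⋙ rsC j := sqIso (resC hj) (vst A) (vst B) (ModuleCat.restrictScalars (jh j ⟨0⟩)) (vst_resC hj)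

/-- `h` of a restricted complex -/
noncomputable def hhIso (hj : CartHom j) (L : CM (A.obj (op ⟨0⟩))) (i : ℤ) :
    (resC hj).mapHomologicalComplex (ComplexShape.up ℤ) ⋙ hh (vst A) L i ≅
      hh (vst B) (extL j L) i ⋙ ModuleCat.restrictScalars (jh j ⟨0⟩) :=
  (Functor.associator _ _ _).symm ≪≫
  Functor.isoWhiskerRight (vIso hj) (tensR L ⋙ homologyFunctor _ _ i) ≪≫
  Functor.associator _ _ _ ≪≫
  Functor.isoWhiskerLeft (vC (vst B)) ((Functor.associator _ _ _).symm ≪≫ Functor.isoWhiskerRight (projJ j L) (homologyFunctor _ _ i) ≪≫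
    Functor.associator _ _ _ ≪≫ Functor.isoWhiskerLeft (tensR (extL j L)) (homIso (ModuleCat.restrictScalars (jh j ⟨0⟩)) i) ≪≫
    (Functor.associator _ _ _).symm) ≪≫ (Functor.associator _ _ _).symm

omit [Fact (GR A)] [Fact (GR B)] in
theorem torGE_rsC (hf : (jh j ⟨0⟩).Flat) {a : ℤ} {K : CM (B.obj (op ⟨0⟩))} (h : TorGE a K) : TorGE a ((rsC j).obj K) := by
  letI := (jh j ⟨0⟩).toAlgebra
  haveI : Module.Flat (A.obj (op ⟨0⟩)) (B.obj (op ⟨0⟩)) := hf
  exact K408.torGE_res (R := A.obj (op ⟨0⟩)) (S := B.obj (op ⟨0⟩)) h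

/-- hits go down along `j_*` -/
theorem hitBy_resC (hj : CartHom j) (hf : (jh j ⟨0⟩).Flat) (L : CM (A.obj (op ⟨0⟩))) (i : ℤ)
    {P' : CochainComplex (Comod B) ℤ → Prop} {P : CochainComplex (Comod A) ℤ → Prop}
    (hP : ∀ T, P' T → P (((resC hj).mapHomologicalComplex (ComplexShape.up ℤ)).obj T))
    (Y : CochainComplex (Comod B) ℤ) (H : ∀ y, HitBy (vst B) (extL j L) i P' Y y)
    (y : (hh (vst A) L i).obj (((resC hj).mapHomologicalComplex (ComplexShape.up ℤ)).obj Y)) :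
    HitBy (vst A) L i P (((resC hj).mapHomologicalComplex (ComplexShape.up ℤ)).obj Y) y := by
  obtain ⟨T, f, t, a, h1, h2, h3, h4⟩ := H (((hhIso hj L i).hom.app Y).hom y)
  refine ⟨((resC hj).mapHomologicalComplex (ComplexShape.up ℤ)).obj T,
    ((resC hj).mapHomologicalComplex (ComplexShape.up ℤ)).map f, ((hhIso hj L i).inv.app T).hom t, a, bdd_map _ h1,
    (torGE_rsC hf h2).of_iso ((vIso hj).app T).symm, hP T h3, ?_⟩
  have e1 := (hhIso hj L i).inv.naturality f
  have e2 : ((hh (vst A) L i).map (((resC hj).mapHomologicalComplex (ComplexShape.up ℤ)).map f)).hom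
      (((hhIso hj L i).inv.app T).hom t) = ((hhIso hj L i).inv.app Y).hom (((hh (vst B) (extL j L) i).map f).hom t) :=
    congr(($e1).hom t).symm
  rw [e2, h4]
  exact congr(($((hhIso hj L i).hom_inv_id_app Y)).hom y)

theorem HitBy.of_iso {R : Type u} [CommRing R] {C : Type*} [Category C] [Abelian C] (us : C ⥤ ModuleCat.{u} R)
    [us.Additive] {L : CM R} {i : ℤ} {P : CochainComplex C ℤ → Prop} {Y Y' : CochainComplex C ℤ} (e : Y ≅ Y')
    (H : ∀ y, HitBy us L i P Y' y) (y : (hh us L i).obj Y) : HitBy us L i P Y y := by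
  obtain ⟨T, f, t, a, h1, h2, h3, h4⟩ := H (((hh us L i).map e.hom).hom y)
  refine ⟨T, f ≫ e.inv, t, a, h1, h2, h3, ?_⟩
  have e1 : (hh us L i).map e.hom ≫ (hh us L i).map e.inv = 𝟙 _ := by
    rw [← Functor.map_comp, e.hom_inv_id, CategoryTheory.Functor.map_id]
  have e2 : ((hh us L i).map (f ≫ e.inv)).hom t = ((hh us L i).map e.inv).hom (((hh us L i).map f).hom t) := by
    rw [Functor.map_comp]
    rfl
  rw [e2, h4]
  exact congr(($e1).hom y)

/-- hits over the localized groupoid ring give `Hq` -/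
theorem hq_of_loc {q : ℕ} [Fact q.Prime] (hj : CartHom j) (h : IsLocHom (SZ q) j) (L : CM (A.obj (op ⟨0⟩))) (i : ℤ)
    (H : ∀ Y : CochainComplex (Comod B) ℤ, Bdd Y → ∀ y, HitBy (vst B) (extL j L) i (fun _ => True) Y y) :
    Hq (vst A) L i q := by
  intro Y hY hq y
  refine HitBy.of_iso (vst A) (isoQ hj h Y hq) (fun y' => ?_) y
  exact hitBy_resC hj h.flat L i (P' := fun _ => True) (fun T _ => qLoc_resC hj h T) _ (H _ (bdd_map (bcC j) hY)) y'

omit [Fact (GR A)] [Fact (GR B)] in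
theorem fracQ_of_isLocHom {q : ℕ} [Fact q.Prime] (h : IsLocHom (SZ q) j) : K929.FracQ (jh j ⟨0⟩) q := by
  letI := (jh j ⟨0⟩).toAlgebra
  haveI : IsLocalization (Algebra.algebraMapSubmonoid (A.obj (op ⟨0⟩)) (SZ q)) (B.obj (op ⟨0⟩)) := h
  intro r'
  obtain ⟨⟨r, ⟨_, s, hs, rfl⟩⟩, hr⟩ := IsLocalization.surj (Algebra.algebraMapSubmonoid (A.obj (op ⟨0⟩)) (SZ q)) r'
  have h1 : algebraMap (A.obj (op ⟨0⟩)) (B.obj (op ⟨0⟩)) (algebraMap ℤ _ s) = (s : B.obj (op ⟨0⟩)) := by simp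
  have h2 : r' * (s : B.obj (op ⟨0⟩)) = jh j ⟨0⟩ r := by
    rw [← h1]
    exact hr
  rcases Int.natAbs_eq s with h3 | h3
  · refine ⟨s.natAbs, r, mem_SZ.1 hs, ?_⟩
    rw [← h2, mul_comm]
    congr 1
    have h5 := congrArg (Int.cast : ℤ → B.obj (op ⟨0⟩)) h3.symm
    rwa [Int.cast_natCast] at h5
  · refine ⟨s.natAbs, -r, mem_SZ.1 hs, ?_⟩
    rw [map_neg, ← h2, mul_comm, ← mul_neg]
    congr 1
    have h4 : (s.natAbs : ℤ) = -s := by omega
    have h5 := congrArg (Int.cast : ℤ → B.obj (op ⟨0⟩)) h4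
    rwa [Int.cast_natCast, Int.cast_neg] at h5

/-- perfect hits over the localized groupoid ring give `HqFg` -/
theorem hqFg_of_loc {q : ℕ} [Fact q.Prime] (hj : CartHom j) (h : IsLocHom (SZ q) j) (L : CM (A.obj (op ⟨0⟩))) (i : ℤ)
    (H : ∀ Y : CochainComplex (Comod B) ℤ, Bdd Y → ∀ y, HitBy (vst B) (extL j L) i
      (fun T => ∀ n, Module.Finite (B.obj (op ⟨0⟩)) (((vC (vst B)).obj T).homology n)) Y y) :
    HqFg (vst A) L i q := by
  intro Y hY hq y
  refine HitBy.of_iso (vst A) (isoQ hj h Y hq) (fun y' => ?_) y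
  refine hitBy_resC hj h.flat L i (fun T hT => ⟨qLoc_resC hj h T, ?_⟩) _ (H _ (bdd_map (bcC j) hY)) y'
  exact (fracQ_of_isLocHom h).fgCoh_restrictScalars ((vC (vst B)).obj T) hT

end Groth.Agent.ResProp.EF.K940
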