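import Groth.Agent.ResProp.EF.K276.OfPM
import Groth.Agent.ResProp.EF.X56.NAffine_784
import Groth.Agent.ResProp.EF.K741.ComodAb

/-!
# Base change and restriction of comodules along a (cartesian) morphism of groupoid rings

* `bcC j : Comod A ⥤ Comod B` (any `j : A ⟶ B`), `resC j hj : Comod B ⥤ Comod A` (`hj : CartHom j`);
* `ηC j hj : 𝟭 ⟶ bcC j ⋙ resC j hj`.
-/

set_option autoImplicit false
set_option linter.dupNamespace false
set_option linter.style.haveILetI false
set_option backward.isDefEq.respectTransparency false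

open CategoryTheory CategoryTheory.Limits Opposite
open scoped TensorProduct

namespace Groth.Agent.ResProp.EF.K940

open EF56 K784.BC K784.PM K741.RP NAffine784 K276

universe u

variable {A B : NFᵒᵖ ⥤ CommRingCat.{u}} (j : A ⟶ B)

/-- the base change of a family of linear maps -/
noncomputable def bcF {M N : PM.{u} A} (q : ∀ a, M.obj a →ₗ[A.obj (op a)] N.obj a) (a : NF) :
    (bc j M).obj a →ₗ[B.obj (op a)] (bc j N).obj a :=
  letI := (jh j a).toAlgebra
  LinearMap.baseChange (B.obj (op a)) (q a)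

theorem bcF_mkh {M N : PM.{u} A} (q : ∀ a, M.obj a →ₗ[A.obj (op a)] N.obj a) (a : NF) (m : M.obj a) :
    bcF j q a (mkh j M a m) = mkh j N a (q a m) := by
  letI := (jh j a).toAlgebra
  exact LinearMap.baseChange_tmul (q a) 1 m

theorem bcF_map {M N : PM.{u} A} (q : ∀ a, M.obj a →ₗ[A.obj (op a)] N.obj a)
    (hq : ∀ ⦃a b : NF⦄ (φ : a ⟶ b) (e : M.obj b), q a (M.map φ e) = N.map φ (q b e)) ⦃a b : NF⦄ (φ : a ⟶ b)
    (e : (bc j M).obj b) : bcF j q a ((bc j M).map φ e) = (bc j N).map φ (bcF j q b e) := by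
  change bcF j q a (bcmap j M φ e) = bcmap j N φ (bcF j q b e)
  induction e using (isBC_mkh j M b).induction with
  | zero => simp only [map_zero]
  | map e => rw [bcmap_mkh, bcF_mkh, bcF_mkh, bcmap_mkh, hq]
  | smul r t ht => rw [bcmap_smul, map_smul, map_smul, bcmap_smul, ht]
  | add t t' ht ht' => simp only [map_add, ht, ht']

/-- the components of a morphism of comodules -/
def cmp {M N : Comod A} (f : M ⟶ N) (a : NF) : (toPM M.obj).obj a →ₗ[A.obj (op a)] (toPM N.obj).obj a :=
  (f.hom.app (op a)).hom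

theorem cmp_map {M N : Comod A} (f : M ⟶ N) ⦃a b : NF⦄ (φ : a ⟶ b) (e : (toPM M.obj).obj b) :
    cmp f a ((toPM M.obj).map φ e) = (toPM N.obj).map φ (cmp f b e) := PresheafOfModules.naturality_apply f.hom φ.op e

theorem cmp_id (M : Comod A) (a : NF) : cmp (𝟙 M) a = LinearMap.id := rfl

theorem cmp_comp {M N P : Comod A} (f : M ⟶ N) (g : N ⟶ P) (a : NF) : cmp (f ≫ g) a = (cmp g a).comp (cmp f a) := rfl

/-- a comodule from a cartesian `PM` -/
noncomputable def mkC (M : PM.{u} A) (h : M.Cart) : Comod A := ⟨ofPM M, ofPM_cart h⟩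

/-- a morphism of comodules from a natural family -/
noncomputable def homC {M N : Comod A} (q : ∀ a : NF, (toPM M.obj).obj a →ₗ[A.obj (op a)] (toPM N.obj).obj a)
    (hq : ∀ ⦃a b : NF⦄ (φ : a ⟶ b) (e : (toPM M.obj).obj b), q a ((toPM M.obj).map φ e) = (toPM N.obj).map φ (q b e)) :
    M ⟶ N := ObjectProperty.homMk (homMk q hq)

theorem cmp_homC {M N : Comod A} (q : ∀ a : NF, (toPM M.obj).obj a →ₗ[A.obj (op a)] (toPM N.obj).obj a)
    (hq : ∀ ⦃a b : NF⦄ (φ : a ⟶ b) (e : (toPM M.obj).obj b), q a ((toPM M.obj).map φ e) = (toPM N.obj).map φ (q b e)) (a : NF) :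
    cmp (homC q hq) a = q a := rfl

theorem hom_ext_cmp {M N : Comod A} {f g : M ⟶ N} (h : ∀ a, cmp f a = cmp g a) : f = g := by
  apply ObjectProperty.hom_ext
  apply PresheafOfModules.hom_ext
  intro X
  apply ModuleCat.hom_ext
  exact h X.unop

/-- base change of comodules -/
noncomputable def bcC : Comod A ⥤ Comod B where
  obj M := mkC (bc j (toPM M.obj)) (bc_cart j M.property)
  map {M N} f := homC (M := mkC (bc j (toPM M.obj)) (bc_cart j M.property))
    (N := mkC (bc j (toPM N.obj)) (bc_cart j N.property)) (bcF j (cmp f)) (bcF_map j (cmp f) (cmp_map f))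
  map_id M := hom_ext_cmp fun a => by
    letI := (jh j a).toAlgebra
    exact LinearMap.baseChange_id
  map_comp f g := hom_ext_cmp fun a => by
    letI := (jh j a).toAlgebra
    exact LinearMap.baseChange_comp (cmp f a) (cmp g a)

variable {j}

/-- restriction of scalars of comodules along a cartesian morphism -/
noncomputable def resC (hj : CartHom j) : Comod B ⥤ Comod A where
  obj M := mkC (res j (toPM M.obj)) (res_cart j M.property fun φ => hj φ)
  map {M N} f := homC (M := mkC (res j (toPM M.obj)) (res_cart j M.property fun φ => hj φ))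
    (N := mkC (res j (toPM N.obj)) (res_cart j N.property fun φ => hj φ))
    (fun a => { toFun := fun m => cmp f a m
                map_add' := fun x y => map_add (cmp f a) x y
                map_smul' := fun r m => (cmp f a).map_smul (jh j a r) m })
    (fun _ _ φ e => cmp_map f φ e)
  map_id _ := rfl
  map_comp _ _ := rfl

theorem resC_cmp (hj : CartHom j) {M N : Comod B} (f : M ⟶ N) (a : NF) (m : (toPM M.obj).obj a) :
    cmp ((resC hj).map f) a m = cmp f a m := rfl

theorem bcC_cmp_mkh {M N : Comod A} (f : M ⟶ N) (a : NF) (m : (toPM M.obj).obj a) :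
    cmp ((bcC j).map f) a (mkh j (toPM M.obj) a m) = mkh j (toPM N.obj) a (cmp f a m) := bcF_mkh j (cmp f) a m

/-- the unit `M ⟶ j_* j^* M` -/
noncomputable def ηC (hj : CartHom j) : 𝟭 (Comod A) ⟶ bcC j ⋙ resC hj where
  app M := homC (M := M) (N := (resC hj).obj ((bcC j).obj M))
    (fun a => { toFun := fun m => mkh j (toPM M.obj) a m
                map_add' := fun x y => map_add (mkh j (toPM M.obj) a) x y
                map_smul' := fun r m => (isBC_mkh j (toPM M.obj) a).map_smul r m })
    (fun _ _ φ e => (bcmap_mkh j (toPM M.obj) φ e).symm)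
  naturality _ _ f := hom_ext_cmp fun a => LinearMap.ext fun m => (bcC_cmp_mkh f a m).symm

theorem cmp_ηC (hj : CartHom j) (M : Comod A) (a : NF) (m : (toPM M.obj).obj a) :
    cmp ((ηC hj).app M) a m = mkh j (toPM M.obj) a m := rfl

theorem hom_ext_bcC {M : Comod A} {N : Comod B} {f g : (bcC j).obj M ⟶ N}
    (h : ∀ a (m : (toPM M.obj).obj a), cmp f a (mkh j (toPM M.obj) a m) = cmp g a (mkh j (toPM M.obj) a m)) : f = g :=
  hom_ext_cmp fun a => (isBC_mkh j (toPM M.obj) a).hom_ext (h a)

instance additive_resC (hj : CartHom j) : (resC hj).Additive where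
  map_add := rfl

instance additive_bcC : (bcC j).Additive where
  map_add {M N} {f g} := hom_ext_bcC fun a m => by
    have h1 : cmp (f + g) a = cmp f a + cmp g a := rfl
    have h2 : cmp ((bcC j).map f + (bcC j).map g) a = cmp ((bcC j).map f) a + cmp ((bcC j).map g) a := rfl
    rw [h2, LinearMap.add_apply, bcC_cmp_mkh, bcC_cmp_mkh, bcC_cmp_mkh, h1, LinearMap.add_apply, map_add]

/-- `v^* j_* = res v^*` -/
noncomputable def vst_resC (hj : CartHom j) :
    resC hj ⋙ vst A ≅ vst B ⋙ ModuleCat.restrictScalars (jh j ⟨0⟩) := Iso.refl _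

end Groth.Agent.ResProp.EF.K940
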