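import Groth.Agent.ResProp.EF.Base

/-!
# Cartesian morphisms of groupoid rings

`gr_of_cartHom` : `CartHom (j : A ⟶ B)` and `GR A` give `GR B`; the same for smoothness of the face.
-/

set_option autoImplicit false
set_option linter.dupNamespace false

open CategoryTheory CategoryTheory.Limits Opposite TensorProduct

namespace Groth.Agent.ResProp.EF.K940

open EF56 K784.BC K784.PM K741.RP

universe u

variable {A B : NFᵒᵖ ⥤ CommRingCat.{u}} {j : A ⟶ B}

theorem isPushout_of_cartHom (hj : CartHom j) {a b : NF} (φ : a ⟶ b) :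
    IsPushout (A.map φ.op) (j.app (op b)) (j.app (op a)) (B.map φ.op) := hj φ

theorem po_of_cartHom (hj : CartHom j) {a b a' b' : NF} (φ : a ⟶ b) (φ' : a' ⟶ b') (p : a' ⟶ a) (q : b' ⟶ b)
    (hw : φ' ≫ q = p ≫ φ) (h : IsPO (rg A φ) (rg A q) (rg A p) (rg A φ')) :
    IsPO (rg B φ) (rg B q) (rg B p) (rg B φ') := by
  have h1 := isPushout_of_cartHom hj φ
  have h4 := isPushout_of_cartHom hj φ'
  have hP : IsPushout (A.map φ.op) (A.map q.op) (A.map p.op) (A.map φ'.op) := h
  have h5 := hP.paste_vert h4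
  rw [j.naturality q.op, j.naturality p.op] at h5
  have h6 : B.map φ.op ≫ B.map p.op = B.map q.op ≫ B.map φ'.op := by
    rw [← B.map_comp, ← B.map_comp, ← op_comp, ← op_comp, hw]
  exact IsPushout.of_top h5 h6 h1

theorem gr_of_cartHom (hj : CartHom j) (hA : GR A) : GR B where
  ff a := (hj (pr a)).ff (hA.ff a)
  po {a b} φ := po_of_cartHom hj φ (wmap φ) (pr a) (pr b) (wmap_pr φ) (hA.po φ)

theorem smooth_of_cartHom (hj : CartHom j) {a b : NF} (φ : a ⟶ b) (h : (rg A φ).Smooth) : (rg B φ).Smooth := by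
  have h2 := RingHom.isStableUnderCobaseChange_toMorphismProperty_iff.2 RingHom.Smooth.isStableUnderBaseChange
  exact h2.1 (isPushout_of_cartHom hj φ).flip h

end Groth.Agent.ResProp.EF.K940
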