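import Groth.Agent.ResProp.EF.K940.OverZ
import Groth.Agent.ResProp.EF.K353.OverZ0

/-!
# `Arch.StmtOverZ` (helper940; the two steps: helper353)
-/

set_option autoImplicit false
set_option linter.dupNamespace false
set_option linter.style.haveILetI false
set_option backward.isDefEq.respectTransparency false

open CategoryTheory CategoryTheory.Limits Opposite HomologicalComplex

namespace Groth.Agent.ResProp.EF.K940

open EF56 K784.BC K784.PM NAffine784 K353

universe u

/-- the step in characteristic `0` for comodules -/
theorem stmtOverZ0_vst (A : NFᵒᵖ ⥤ CommRingCat.{u}) [Fact (GR A)] : StmtOverZ0' (vst A) := by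
  haveI : HasColimitsOfSize.{0, 0} (Comod A) := hasColimitsOfSizeShrink.{0, 0, u, u} (Comod A)
  haveI : PreservesColimitsOfSize.{0, 0} (vst A) := (chartF A).adj.leftAdjoint_preservesColimits
  exact stmtOverZ0' (vst A)

/-- **hits over all `X_(p)` give hits over `X`** -/
theorem stmtOverZ : Arch.StmtOverZ.{u} := stmtOverZ_of0 fun A _ _ => stmtOverZ0_vst A

end Groth.Agent.ResProp.EF.K940
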