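import Groth.Agent.ResProp.EF.K940.Local
import Groth.Agent.ResProp.EF.K353.Defs

/-!
# `q`-local comodules in the sense of helper353 and `SLocal`
-/

set_option autoImplicit false
set_option linter.dupNamespace false
set_option linter.style.haveILetI false

open CategoryTheory CategoryTheory.Limits Opposite

namespace Groth.Agent.ResProp.EF.K940

open EF56 K784.BC K784.PM K353

universe u

variable {A B : NFᵒᵖ ⥤ CommRingCat.{u}} {j : A ⟶ B}

/-- the integers prime to `q` -/
abbrev SZ (q : ℕ) [Fact q.Prime] : Submonoid ℤ :=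
  haveI : (Ideal.span {(q : ℤ)}).IsPrime := (Ideal.span_singleton_prime (by exact_mod_cast (Fact.out : q.Prime).ne_zero)).2
    (Nat.prime_iff_prime_int.1 Fact.out)
  (Ideal.span {(q : ℤ)}).primeCompl

theorem mem_SZ {q : ℕ} [Fact q.Prime] {s : ℤ} : s ∈ SZ q ↔ s.natAbs.Coprime q := by
  haveI : (Ideal.span {(q : ℤ)}).IsPrime := (Ideal.span_singleton_prime (by exact_mod_cast (Fact.out : q.Prime).ne_zero)).2
    (Nat.prime_iff_prime_int.1 Fact.out)
  rw [SZ, Ideal.mem_primeCompl_iff, Ideal.mem_span_singleton, Nat.coprime_comm, (Fact.out : q.Prime).coprime_iff_not_dvd,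
    Int.natCast_dvd]

variable [Fact (GR A)]

theorem qLocO_iff {q : ℕ} [Fact q.Prime] (M : Comod A) : QLocO q M ↔ SLocal (SZ q) M := by
  rw [sLocal_iff_isIso]
  constructor
  · intro h s hs
    have h1 := h s.natAbs (mem_SZ.1 hs)
    rcases Int.natAbs_eq s with h2 | h2
    · rw [h2]
      exact h1
    · rw [h2]
      obtain ⟨g, h3, h4⟩ := h1
      exact ⟨-g, by rw [neg_smul, Preadditive.neg_comp_neg, h3], by rw [neg_smul, Preadditive.neg_comp_neg, h4]⟩
  · intro h n hn
    exact h n (mem_SZ.2 (by simpa using hn))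

theorem qLocO_resC {q : ℕ} [Fact q.Prime] (hj : CartHom j) (h : IsLocHom (SZ q) j) (N : Comod B) :
    QLocO q ((resC hj).obj N) := (qLocO_iff _).2 (sLocal_resC hj h N)

theorem qLoc_resC {q : ℕ} [Fact q.Prime] (hj : CartHom j) (h : IsLocHom (SZ q) j) (Y : CochainComplex (Comod B) ℤ) :
    QLoc q (((resC hj).mapHomologicalComplex (ComplexShape.up ℤ)).obj Y) := fun i => qLocO_resC hj h (Y.X i)

theorem bdd_map {C D : Type*} [Category C] [Category D] [Abelian C] [Abelian D] (F : C ⥤ D) [F.Additive]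
    {Y : CochainComplex C ℤ} (h : Bdd Y) : Bdd ((F.mapHomologicalComplex (ComplexShape.up ℤ)).obj Y) := by
  obtain ⟨a, b, h1, h2⟩ := h
  refine ⟨a, b, ?_, ?_⟩
  · rw [CochainComplex.isStrictlyGE_iff] at h1 ⊢
    exact fun i hi => F.map_isZero (h1 i hi)
  · rw [CochainComplex.isStrictlyLE_iff] at h2 ⊢
    exact fun i hi => F.map_isZero (h2 i hi)

/-- a bounded `q`-local complex of comodules comes from the localized groupoid ring -/
noncomputable def isoQ {q : ℕ} [Fact q.Prime] (hj : CartHom j) (h : IsLocHom (SZ q) j) (Y : CochainComplex (Comod A) ℤ)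
    (hY : QLoc q Y) : Y ≅ ((resC hj).mapHomologicalComplex (ComplexShape.up ℤ)).obj
      (((bcC j).mapHomologicalComplex (ComplexShape.up ℤ)).obj Y) :=
  isoCx hj h Y fun i => (qLocO_iff _).1 (hY i)

end Groth.Agent.ResProp.EF.K940
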