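import Groth.Agent.ResProp.EF.K940.Bc
import Mathlib.Algebra.Category.ModuleCat.Descent
import Mathlib.Algebra.Category.ModuleCat.ChangeOfRingsExact

/-!
# The adjunction `j^* ⊣ j_*` for comodules, exactness
-/

set_option autoImplicit false
set_option linter.dupNamespace false
set_option linter.style.haveILetI false
set_option backward.isDefEq.respectTransparency false

open CategoryTheory CategoryTheory.Limits Opposite
open scoped TensorProduct

namespace Groth.Agent.ResProp.EF.K940

open EF56 K784.BC K784.PM K741.RP NAffine784 K276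

universe u

variable {A B : NFᵒᵖ ⥤ CommRingCat.{u}} {j : A ⟶ B}

theorem exists_ψ (hj : CartHom j) {M : Comod A} {N : Comod B} (g : M ⟶ (resC hj).obj N) :
    ∃ f : (bcC j).obj M ⟶ N, ∀ a (m : (toPM M.obj).obj a), cmp f a (mkh j (toPM M.obj) a m) = cmp g a m := by
  obtain ⟨q', h1, h2⟩ := exists_adj j (toPM M.obj) (toPM N.obj) (cmp g) (cmp_map g)
  exact ⟨homC (M := (bcC j).obj M) q' h2, h1⟩

/-- the adjunction `j^* ⊣ j_*` -/
noncomputable def adjC (hj : CartHom j) : bcC j ⊣ resC hj :=
  Adjunction.mkOfHomEquiv
    { homEquiv := fun M N =>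
        { toFun := fun f => (ηC hj).app M ≫ (resC hj).map f
          invFun := fun g => (exists_ψ hj g).choose
          left_inv := fun f => hom_ext_bcC fun a m => (exists_ψ hj _).choose_spec a m
          right_inv := fun g => hom_ext_cmp fun a => LinearMap.ext fun m => (exists_ψ hj g).choose_spec a m }
      homEquiv_naturality_left_symm := fun {X' X Y} f g => hom_ext_bcC fun a m => by
        refine ((exists_ψ hj (f ≫ g)).choose_spec a m).trans ?_
        refine ((exists_ψ hj g).choose_spec a (cmp f a m)).symm.trans ?_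
        exact (congrArg (cmp (exists_ψ hj g).choose a) (bcC_cmp_mkh f a m)).symm
      homEquiv_naturality_right := fun f g => rfl }

theorem adjC_unit (hj : CartHom j) : (adjC hj).unit = ηC hj := by
  ext M : 2
  exact hom_ext_cmp fun a => rfl

theorem preservesColimits_bcC (hj : CartHom j) : PreservesColimitsOfSize.{u, u} (bcC j) :=
  (adjC hj).leftAdjoint_preservesColimits

theorem preservesFiniteColimits_bcC (hj : CartHom j) : PreservesFiniteColimits (bcC j) :=
  ⟨fun _ _ _ => (adjC hj).leftAdjoint_preservesColimits.preservesColimitsOfShape⟩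

section

variable [Fact (GR A)] [Fact (GR B)]

theorem preservesFiniteLimits_resC (hj : CartHom j) : PreservesFiniteLimits (resC hj) := by
  have : PreservesFiniteLimits (resC hj ⋙ vst A) :=
    inferInstanceAs (PreservesFiniteLimits (vst B ⋙ ModuleCat.restrictScalars (jh j ⟨0⟩)))
  exact preservesFiniteLimits_of_reflects_of_preserves (resC hj) (vst A)

theorem preservesFiniteColimits_resC (hj : CartHom j) : PreservesFiniteColimits (resC hj) := by
  have : PreservesFiniteColimits (resC hj ⋙ vst A) :=
    inferInstanceAs (PreservesFiniteColimits (vst B ⋙ ModuleCat.restrictScalars (jh j ⟨0⟩)))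
  exact preservesFiniteColimits_of_reflects_of_preserves (resC hj) (vst A)

theorem preservesFiniteLimits_bcC (hf : (jh j ⟨0⟩).Flat) : PreservesFiniteLimits (bcC j) := by
  have := ModuleCat.preservesFiniteLimits_extendScalars_of_flat (f := jh j ⟨0⟩) hf
  have : PreservesFiniteLimits (bcC j ⋙ vst B) :=
    inferInstanceAs (PreservesFiniteLimits (vst A ⋙ ModuleCat.extendScalars (jh j ⟨0⟩)))
  exact preservesFiniteLimits_of_reflects_of_preserves (bcC j) (vst B)

end

/-- `v^* j^* = j_0^* v^*` -/
noncomputable def vst_bcC : bcC j ⋙ vst B ≅ vst A ⋙ ModuleCat.extendScalars (jh j ⟨0⟩) :=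
  Iso.refl _

end Groth.Agent.ResProp.EF.K940
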