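import Groth.Agent.ResProp.EF.K940.OverZTop
import Groth.Agent.ResProp.EF.K353.Defs3
import Groth.Agent.ResProp.EF.K929.TPerf
import Groth.Agent.ResProp.EF.K929.LocFG

/-!
# `ResHit` over `A ⊗ ℤ_(q)` gives `K353.HqFt` (finitely generated terms) (helper940)
-/

set_option autoImplicit false
set_option linter.dupNamespace false
set_option linter.style.haveILetI false
set_option backward.isDefEq.respectTransparency false

open CategoryTheory CategoryTheory.Limits Opposite HomologicalComplex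

namespace Groth.Agent.ResProp.EF.K940

open EF56 K784.BC K784.PM NAffine784 K353 Groth.Agent.ResProp.EF.K294 K741.RP Grp

universe w v u

section hits

variable {R : Type u} [CommRing R] {C : Type v} [Category.{w} C] [Abelian C]

attribute [local instance] HasDerivedCategory.standard in
/-- all degrees, finitely generated terms -/
theorem allHit_hitBy_ft [IsNoetherianRing R] (X : Chart R C) (us : C ⥤ ModuleCat.{u} R) [us.Additive] (h : X.us = us)
    (hF : K929.LocFG us) (N : CM R) (hN : IsTest N) (H : F5.AllHit X N) (j : ℤ) (Y : CochainComplex C ℤ) (hY : Bdd Y)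
    (y : (hh us N j).obj Y) :
    HitBy us N j (fun T => ∀ n, Module.Finite R (us.obj (T.X n))) Y y := by
  subst h
  obtain ⟨T, hT, hTT, g, t, ht⟩ := K935.hits_of_HL_tr K935.closed_bdd N
    (K935.HL_of_hits K935.closed_bdd N (K935.hits_of_allHit H)) j Y hY y
  have hP := (K935.perfT_iff' X T).2 ⟨hT, hTT⟩
  obtain ⟨T₀, i, -, hi, h₀⟩ := K929.PerfT.exists_fgT hF hP
  obtain ⟨a, ha⟩ := h₀.tor
  have h1 : QuasiIso ((vC X.us).map i) := inferInstanceAs (QuasiIso (X.usC.map i))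
  have h2 : QuasiIso ((tensR N).map ((vC X.us).map i)) := hN.kfl.quasiIso _
  have h3 : IsIso ((hh X.us N j).map i) := inferInstanceAs (IsIso (homologyMap ((tensR N).map ((vC X.us).map i)) j))
  obtain ⟨t₀, ht₀⟩ := (ConcreteCategory.bijective_of_isIso ((hh X.us N j).map i)).2 t
  refine ⟨T₀, i ≫ g, t₀, a, h₀.bdd, ha, h₀.fin, ?_⟩
  have h4 : ((hh X.us N j).map (i ≫ g)).hom t₀ = ((hh X.us N j).map g).hom (((hh X.us N j).map i).hom t₀) := by
    rw [Functor.map_comp]
    rfl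
  rw [h4]
  exact (congrArg _ ht₀).trans ht

end hits

section loc

variable {A B : NFᵒᵖ ⥤ CommRingCat.{u}} {j : A ⟶ B} [Fact (GR A)] [Fact (GR B)]

/-- hits with finitely generated terms over the localized groupoid ring give `HqFt` -/
theorem hqFt_of_loc {q : ℕ} [Fact q.Prime] (hj : CartHom j) (h : IsLocHom (SZ q) j) (L : CM (A.obj (op ⟨0⟩))) (i : ℤ)
    (H : ∀ Y : CochainComplex (Comod B) ℤ, Bdd Y → ∀ y, HitBy (vst B) (extL j L) i
      (fun T => ∀ n, Module.Finite (B.obj (op ⟨0⟩)) ((vst B).obj (T.X n))) Y y) :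
    HqFt (vst A) L i q := by
  intro Y hY hq y
  refine HitBy.of_iso (vst A) (isoQ hj h Y hq) (fun y' => ?_) y
  refine hitBy_resC hj h.flat L i (fun T hT => ⟨qLoc_resC hj h T, ?_⟩) _ (H _ (bdd_map (bcC j) hY)) y'
  intro n
  obtain ⟨s, hs⟩ := (hT n).fg_top
  refine ⟨s, fun x => ?_⟩
  letI : Module (A.obj (op ⟨0⟩)) ((vst B).obj (T.X n)) := Module.compHom _ (jh j ⟨0⟩)
  exact (fracQ_of_isLocHom h).mem_span (M := (vst B).obj (T.X n)) (fun r m => rfl) (s : Set ((vst B).obj (T.X n)))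
    (x := x) (by rw [hs]; trivial)

end loc

section hq

variable {A : NFᵒᵖ ⥤ CommRingCat.{u}} [Fact (GR A)] (q : ℕ) [Fact q.Prime] [Fact (GR (K944.lam (K209.Lb.{u} q) A))]
  (hn : IsNoetherianRing ((K944.lam (K209.Lb.{u} q) A).obj (op ⟨0⟩)))
  (H : ∀ x, Arch.ResHit (chartF (K944.lam (K209.Lb.{u} q) A)) x)
  (I : Ideal (A.obj (op ⟨0⟩))) [I.IsPrime]
  (hI : ∀ n : ℤ, n ∈ SZ q → (n : A.obj (op ⟨0⟩)) ∉ I) (i : ℤ)

include hn H hI

omit [Fact (GR A)] in
theorem hitBy_lam_ft (Y : CochainComplex (Comod (K944.lam (K209.Lb.{u} q) A)) ℤ) (hY : Bdd Y)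
    (y : (hh (vst (K944.lam (K209.Lb.{u} q) A)) (extL (K944.jl (K209.Lb.{u} q) A) (resK I)) i).obj Y) :
    HitBy (vst (K944.lam (K209.Lb.{u} q) A)) (extL (K944.jl (K209.Lb.{u} q) A) (resK I)) i
      (fun T => ∀ n, Module.Finite ((K944.lam (K209.Lb.{u} q) A).obj (op ⟨0⟩))
        ((vst (K944.lam (K209.Lb.{u} q) A)).obj (T.X n))) Y y := by
  obtain ⟨x', hT, he⟩ := exists_res_point (isLocHom_Lb (A := A) q) I hI
  exact allHit_hitBy_ft (chartF _) (vst _) (chartF_us _) K929.locFG_vst _ hT (H x' _ hT he) i Y hY y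

/-- **output 3** -/
theorem hqFt_of_resHit : HqFt (vst A) (resK I) i q :=
  hqFt_of_loc (K944.cartHom_jl A) (isLocHom_Lb (A := A) q) _ i
    fun Y hY y => hitBy_lam_ft q hn H I hI i Y hY y

end hq

end Groth.Agent.ResProp.EF.K940
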