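import Groth.Agent.ResProp.EF.K940.Adj
import Groth.Agent.ResProp.EF.K944.LocEx
import Mathlib.RingTheory.Localization.BaseChange

/-!
# Local objects of `Comod A` come from the localized groupoid ring

`S` a submonoid of `ℤ`, `j : A ⟶ B` cartesian with `B⟨0⟩ = S⁻¹ A⟨0⟩` (`IsLocHom S j`; example `jl k A`, `IsLocalization S k`).

* `SLocal S M` : the integers in `S` act bijectively on `v^* M` (iff `s • 𝟙 M` is an isomorphism for `s ∈ S`);
* `sLocal_resC` : `j_* N` is local; `isIso_ηC` : `M ⟶ j_* j^* M` is an isomorphism iff `M` is local.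
-/

set_option autoImplicit false
set_option linter.dupNamespace false
set_option linter.style.haveILetI false
set_option backward.isDefEq.respectTransparency false

open CategoryTheory CategoryTheory.Limits Opposite
open scoped TensorProduct

namespace Groth.Agent.ResProp.EF.K940

open EF56 K784.BC K784.PM K741.RP NAffine784 K276

universe u

section Mod

variable {R R' M : Type*} [CommRing R] [CommRing R'] [Algebra R R'] [AddCommGroup M] [Module R M]

/-- a module on which the submonoid acts bijectively is its own localization -/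
theorem bijective_mk_of_local (T : Submonoid R) [IsLocalization T R'] (h : ∀ t ∈ T, Function.Bijective fun m : M => t • m) :
    Function.Bijective (TensorProduct.mk R R' M 1) := by
  haveI : IsLocalizedModule T (TensorProduct.mk R R' M 1) :=
    (isLocalizedModule_iff_isBaseChange T R' _).2 (TensorProduct.isBaseChange R M R')
  refine ⟨fun m m' hm => ?_, fun x => ?_⟩
  · obtain ⟨c, hc⟩ := (IsLocalizedModule.eq_iff_exists T (TensorProduct.mk R R' M 1)).1 hm
    exact (h c c.2).1 hc
  · obtain ⟨⟨m, t⟩, hx⟩ := IsLocalizedModule.surj T (TensorProduct.mk R R' M 1) x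
    obtain ⟨m', rfl⟩ := (h t t.2).2 m
    refine ⟨m', ?_⟩
    have h2 := IsLocalizedModule.map_units (TensorProduct.mk R R' M 1) t
    have h3 := (Module.End.isUnit_iff _).1 h2
    refine h3.1 ?_
    change (t : R) • TensorProduct.mk R R' M 1 m' = (t : R) • x
    rw [← map_smul]
    exact hx.symm

end Mod

variable {A B : NFᵒᵖ ⥤ CommRingCat.{u}} {j : A ⟶ B} (S : Submonoid ℤ)

/-- the integers in `S` act bijectively -/
def SLocal (M : Comod A) : Prop := ∀ s ∈ S, Function.Bijective fun m : (vst A).obj M => (s : ℤ) • m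

/-- the chart ring of `B` is the localization of the chart ring of `A` at the image of `S` -/
def IsLocHom (j : A ⟶ B) : Prop :=
  letI := (jh j ⟨0⟩).toAlgebra
  IsLocalization (Algebra.algebraMapSubmonoid (A.obj (op ⟨0⟩)) S) (B.obj (op ⟨0⟩))

variable {S}

theorem isLocHom_jl {k : Type u} [CommRing k] [IsLocalization S k] : IsLocHom S (K944.jl k A) := by
  have h1 : IsLocalization (Algebra.algebraMapSubmonoid (A.obj (op ⟨0⟩)) S) ((A.obj (op ⟨0⟩)) ⊗[ℤ] k) := inferInstance
  have h2 : (jh (K944.jl k A) ⟨0⟩).toAlgebra =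
      (Algebra.TensorProduct.leftAlgebra : Algebra (A.obj (op ⟨0⟩)) ((A.obj (op ⟨0⟩)) ⊗[ℤ] k)) :=
    Algebra.algebra_ext _ _ fun _ => rfl
  rw [IsLocHom, h2]
  exact h1

theorem IsLocHom.flat (h : IsLocHom S j) : (jh j ⟨0⟩).Flat := by
  letI := (jh j ⟨0⟩).toAlgebra
  haveI : IsLocalization (Algebra.algebraMapSubmonoid (A.obj (op ⟨0⟩)) S) (B.obj (op ⟨0⟩)) := h
  exact IsLocalization.flat (B.obj (op ⟨0⟩)) (Algebra.algebraMapSubmonoid (A.obj (op ⟨0⟩)) S)

theorem sLocal_resC (hj : CartHom j) (h : IsLocHom S j) (N : Comod B) : SLocal S ((resC hj).obj N) := by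
  letI := (jh j ⟨0⟩).toAlgebra
  haveI : IsLocalization (Algebra.algebraMapSubmonoid (A.obj (op ⟨0⟩)) S) (B.obj (op ⟨0⟩)) := h
  intro s hs
  have h1 : IsUnit (algebraMap (A.obj (op ⟨0⟩)) (B.obj (op ⟨0⟩)) (algebraMap ℤ _ s)) :=
    IsLocalization.map_units (B.obj (op ⟨0⟩)) (⟨algebraMap ℤ _ s, s, hs, rfl⟩ :
      Algebra.algebraMapSubmonoid (A.obj (op ⟨0⟩)) S)
  have h2 : algebraMap (A.obj (op ⟨0⟩)) (B.obj (op ⟨0⟩)) (algebraMap ℤ _ s) = (s : B.obj (op ⟨0⟩)) := by simp
  rw [h2] at h1
  obtain ⟨w, hw⟩ := h1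
  have h3 : ∀ m : (toPM N.obj).obj ⟨0⟩, (s : ℤ) • m = w • m := fun m => by
    rw [Units.smul_def, hw, Int.cast_smul_eq_zsmul]
  have h4 : (fun m : (toPM N.obj).obj ⟨0⟩ => (s : ℤ) • m) = fun m => w • m := funext h3
  change Function.Bijective (fun m : (toPM N.obj).obj ⟨0⟩ => (s : ℤ) • m)
  rw [h4]
  exact MulAction.bijective w

theorem isIso_ηC [Fact (GR A)] (hj : CartHom j) (h : IsLocHom S j) {M : Comod A} (hM : SLocal S M) :
    IsIso ((ηC hj).app M) := by
  haveI : IsIso ((vst A).map ((ηC hj).app M)) := by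
    rw [ConcreteCategory.isIso_iff_bijective]
    letI := (jh j ⟨0⟩).toAlgebra
    haveI : IsLocalization (Algebra.algebraMapSubmonoid (A.obj (op ⟨0⟩)) S) (B.obj (op ⟨0⟩)) := h
    refine bijective_mk_of_local (R' := B.obj (op ⟨0⟩)) (M := (toPM M.obj).obj ⟨0⟩)
      (Algebra.algebraMapSubmonoid (A.obj (op ⟨0⟩)) S) ?_
    rintro _ ⟨s, hs, rfl⟩
    have h4 : (fun m : (toPM M.obj).obj ⟨0⟩ => algebraMap ℤ (A.obj (op ⟨0⟩)) s • m) = fun m => (s : ℤ) • m :=
      funext fun m => by rw [algebraMap_smul]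
    rw [h4]
    exact hM s hs
  exact isIso_of_reflects_iso ((ηC hj).app M) (vst A)

/-- `v^*` of the unit is the localization map -/
theorem isLocalizedModule_ηC (hj : CartHom j) (h : IsLocHom S j) (M : Comod A) :
    IsLocalizedModule (Algebra.algebraMapSubmonoid (A.obj (op ⟨0⟩)) S) ((vst A).map ((ηC hj).app M)).hom := by
  letI := (jh j ⟨0⟩).toAlgebra
  haveI : IsLocalization (Algebra.algebraMapSubmonoid (A.obj (op ⟨0⟩)) S) (B.obj (op ⟨0⟩)) := h
  exact (isLocalizedModule_iff_isBaseChange (Algebra.algebraMapSubmonoid (A.obj (op ⟨0⟩)) S) (B.obj (op ⟨0⟩))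
    (TensorProduct.mk (A.obj (op ⟨0⟩)) (B.obj (op ⟨0⟩)) ((toPM M.obj).obj ⟨0⟩) 1)).2
    (TensorProduct.isBaseChange (A.obj (op ⟨0⟩)) ((toPM M.obj).obj ⟨0⟩) (B.obj (op ⟨0⟩)))

theorem sLocal_of_isIso_ηC (hj : CartHom j) (h : IsLocHom S j) {M : Comod A} (hM : IsIso ((ηC hj).app M)) :
    SLocal S M := by
  intro s hs
  have h1 := sLocal_resC hj h ((bcC j).obj M) s hs
  have h2 : IsIso ((vst A).map ((ηC hj).app M)) := inferInstance
  rw [ConcreteCategory.isIso_iff_bijective] at h2
  let e := AddEquiv.ofBijective (((vst A).map ((ηC hj).app M)).hom.toAddMonoidHom) h2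
  have h3 : (fun m : (vst A).obj M => (s : ℤ) • m) = fun m => e.symm ((s : ℤ) • e m) := funext fun m => by
    rw [← map_zsmul, AddEquiv.symm_apply_apply]
  rw [h3]
  exact e.symm.bijective.comp (h1.comp e.bijective)

/-- a complex of local comodules comes from the localized groupoid ring -/
noncomputable def isoCx [Fact (GR A)] (hj : CartHom j) (h : IsLocHom S j) {ι : Type*} {c : ComplexShape ι}
    (Y : HomologicalComplex (Comod A) c) (hY : ∀ i, SLocal S (Y.X i)) :
    Y ≅ ((resC hj).mapHomologicalComplex c).obj (((bcC j).mapHomologicalComplex c).obj Y) :=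
  HomologicalComplex.Hom.isoOfComponents (fun i => @asIso _ _ _ _ ((ηC hj).app (Y.X i)) (isIso_ηC hj h (hY i)))
    fun i k _ => ((ηC hj).naturality (Y.d i k)).symm

/-- comparison with helper944's `resC` -/
noncomputable def resCIso (hj : CartHom j) : K944.resC hj ≅ resC hj := Iso.refl _

/-- the localization endofunctor `M ↦ S⁻¹ M` of `Comod A` -/
noncomputable abbrev locC (hj : CartHom j) : Comod A ⥤ Comod A := bcC j ⋙ resC hj

theorem preservesFiniteLimits_locC [Fact (GR A)] [Fact (GR B)] (hj : CartHom j) (h : IsLocHom S j) :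
    PreservesFiniteLimits (locC hj) := by
  haveI := preservesFiniteLimits_bcC (j := j) h.flat
  haveI := preservesFiniteLimits_resC hj
  exact comp_preservesFiniteLimits _ _

theorem preservesFiniteColimits_locC [Fact (GR A)] [Fact (GR B)] (hj : CartHom j) :
    PreservesFiniteColimits (locC hj) := by
  haveI := preservesFiniteColimits_bcC hj
  haveI := preservesFiniteColimits_resC hj
  exact comp_preservesFiniteColimits _ _

theorem sLocal_iff_isIso [Fact (GR A)] (M : Comod A) :
    SLocal S M ↔ ∀ s ∈ S, IsIso ((s : ℤ) • 𝟙 M) := by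
  refine forall₂_congr fun s _ => ?_
  have h1 : ((vst A).map ((s : ℤ) • 𝟙 M)) = (s : ℤ) • 𝟙 ((vst A).obj M) := by
    rw [Functor.map_zsmul, CategoryTheory.Functor.map_id]
  have h2 : IsIso ((s : ℤ) • 𝟙 M) ↔ IsIso ((vst A).map ((s : ℤ) • 𝟙 M)) :=
    ⟨fun _ => inferInstance, fun _ => isIso_of_reflects_iso _ (vst A)⟩
  rw [h2, h1, ConcreteCategory.isIso_iff_bijective]
  rfl

end Groth.Agent.ResProp.EF.K940
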