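import Groth.Agent.ResProp.EF.K940.HqFt
import Groth.Agent.ResProp.EF.K940.Adj
import Groth.Agent.ResProp.EF.K353.OverZp
import Groth.Agent.ResProp.EF.K408.CharL

/-!
# `Arch.StmtOverZ` from helper353's step in characteristic `0` (helper940)
-/

set_option autoImplicit false
set_option linter.dupNamespace false
set_option linter.style.haveILetI false
set_option backward.isDefEq.respectTransparency false

open CategoryTheory CategoryTheory.Limits Opposite HomologicalComplex

namespace Groth.Agent.ResProp.EF.K940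

open EF56 K784.BC K784.PM NAffine784 K353 Groth.Agent.ResProp.EF.K294 K741.RP Grp

universe w v u

/-- the step in characteristic `p` for comodules -/
theorem stmtOverZp_vst (A : NFᵒᵖ ⥤ CommRingCat.{u}) [Fact (GR A)] : StmtOverZp (vst A) := by
  haveI : HasColimitsOfSize.{0, 0} (Comod A) := hasColimitsOfSizeShrink.{0, 0, u, u} (Comod A)
  haveI : PreservesColimitsOfSize.{0, 0} (vst A) := (chartF A).adj.leftAdjoint_preservesColimits
  exact stmtOverZp (vst A)

/-- **`Arch.StmtOverZ` from the step in characteristic `0`** -/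
theorem stmtOverZ_of0
    (h0 : ∀ (A : NFᵒᵖ ⥤ CommRingCat.{u}) [Fact (GR A)], IsNoetherianRing (A.obj (op ⟨0⟩)) → StmtOverZ0' (vst A)) :
    Arch.StmtOverZ.{u} := by
  refine Arch.stmtOverZ_of fun A _ hA H => ?_
  haveI hN := isNoetherianRing_of_GRZ hA
  have hN' : ∀ (p : ℕ) [Fact p.Prime], IsNoetherianRing ((K944.lam (K209.Lb.{u} p) A).obj (op ⟨0⟩)) := by
    intro p _
    obtain ⟨g⟩ := (Arch.stmtLocGRF A hA).1 p
    haveI := K209.isLb.{u} p
    exact Arch.isNoetherianRing_of_grf (p := p) (K209.Lb.{u} p) _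
  have hG : ∀ (p : ℕ) [Fact p.Prime], Fact (GR (K944.lam (K209.Lb.{u} p) A)) := fun p _ => ⟨K944.gr_lam hA.toGR⟩
  refine K935.hit_of_out (X := chartF A) fun I _ j => ?_
  change Out (vst A) (resK I) j
  obtain ⟨c, hc⟩ := CharP.exists I.ResidueField
  rcases CharP.char_is_prime_or_zero I.ResidueField c with hcp | rfl
  · haveI : Fact c.Prime := ⟨hcp⟩
    haveI := hG c
    refine stmtOverZp_vst A _ j c hcp (isTest_Res _) (K408.charP_res I c ?_)
      (hq_of_resHit c (hN' c) (fun x => H c x) I (fun n hn => not_mem_of_charP I c n hn) j)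
    rw [← Ideal.algebraMap_residueField_eq_zero, map_natCast]
    exact CharP.cast_eq_zero _ c
  · haveI : CharZero I.ResidueField := CharP.charP_to_charZero _
    refine h0 A hN _ j 2 Nat.prime_two (isTest_Res _) (K408.char0_res I ?_) ?_ ?_ K929.locFin_vst K417.spreadT
    · intro n hn h
      rw [← Ideal.algebraMap_residueField_eq_zero, map_natCast, Nat.cast_eq_zero] at h
      exact hn h
    · intro q hq
      haveI : Fact q.Prime := ⟨hq⟩
      haveI := hG q
      exact hq_of_resHit q (hN' q) (fun x => H q x) I (fun n hn => not_mem_of_charZero I q n hn) j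
    · haveI : Fact (Nat.Prime 2) := ⟨Nat.prime_two⟩
      haveI := hG 2
      exact hqFt_of_resHit 2 (hN' 2) (fun x => H 2 x) I (fun n hn => not_mem_of_charZero I 2 n hn) j

end Groth.Agent.ResProp.EF.K940
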