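import Groth.Agent.ResProp.EF.K940.HqEnd
import Groth.Agent.ResProp.EF.K799.Congr
import Groth.Agent.ResProp.EF.K935.Final
import Groth.Agent.ResProp.EF.K408.Kappa
import Groth.Agent.ResProp.EF.K353.Defs2
import Groth.Agent.ResProp.EF.K417.SpreadT
import Mathlib.RingTheory.LocalRing.ResidueField.Ideal

/-!
# `Arch.StmtOverZ`: the assembly (helper940)

* `allHit_hitBy` : `F5.AllHit X N`, `N` a test complex ⇒ hits in all degrees, finitely generated cohomology.
* `exists_point` : residue fields and localization.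
* `hq_of_resHit`, `hqFg_of_resHit` : `ResHit` over `A ⊗ ℤ_(q)` ⇒ `K353.Hq`, `K353.HqFg` at `L = Res κ(x)`.
* `stmtOverZ_of_steps` : `K353.StmtOverZp`, `K353.StmtOverZ0` for `vst A` ⇒ `Arch.StmtOverZ`.
-/

set_option autoImplicit false
set_option linter.dupNamespace false
set_option linter.style.haveILetI false
set_option backward.isDefEq.respectTransparency false

open CategoryTheory CategoryTheory.Limits Opposite HomologicalComplex

namespace Groth.Agent.ResProp.EF.K940

open EF56 K784.BC K784.PM NAffine784 K353 Groth.Agent.ResProp.EF.K294 K741.RP Grp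

universe w v u

attribute [local instance] HasDerivedCategory.standard

section spread

theorem spread_of_spreadT {R : Type u} [CommRing R] (h : SpreadT R) : Spread R := by
  intro K K' φ a hK hf hφ hT
  refine h K a hK hf fun L hL i hi x => ?_
  obtain ⟨-, h2, -⟩ := hφ L hL i
  refine h2 x ?_
  have h3 := hT L hL i hi
  rw [exactAt_iff_isZero_homology] at h3
  have h4 : Subsingleton ((tens K' L).homology i) := ModuleCat.subsingleton_of_isZero h3
  exact @Subsingleton.elim _ h4 _ _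

end spread

section hits

variable {R : Type u} [CommRing R] {C : Type v} [Category.{w} C] [Abelian C]

/-- all degrees, finitely generated cohomology -/
theorem allHit_hitBy [IsNoetherianRing R] (X : Chart R C) (us : C ⥤ ModuleCat.{u} R) [us.Additive] (h : X.us = us)
    (N : CM R) (H : F5.AllHit X N) (j : ℤ) (Y : CochainComplex C ℤ) (hY : Bdd Y) (y : (hh us N j).obj Y) :
    HitBy us N j (fun T => ∀ n, Module.Finite R (((vC us).obj T).homology n)) Y y := by
  subst h
  obtain ⟨T, hT, hTT, g, t, ht⟩ := K935.hits_of_HL_tr K935.closed_bdd N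
    (K935.HL_of_hits K935.closed_bdd N (K935.hits_of_allHit H)) j Y hY y
  obtain ⟨hb, Q, l, hQ, hl⟩ := (K935.perfT_iff' X T).2 ⟨hT, hTT⟩
  obtain ⟨a, ha⟩ := K408.torGE_of_quasiIso_perf hQ l hl
  exact ⟨T, g, t, a, hb, ha, fun n => K408.finite_homology_of_perf hQ l hl n, ht⟩

end hits

section point

variable {R S : Type u} [CommRing R] [CommRing S] [Algebra R S]

/-- the residue field does not change under localization -/
theorem exists_point (T : Submonoid R) [IsLocalization T S] (q : Ideal R) [hq : q.IsPrime]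
    (h : Disjoint (T : Set R) (q : Set R)) :
    ∃ x' : PrimeSpectrum S, Nonempty (ModuleCat.of R q.ResidueField ≅
      (Groth.Agent.PerfB.RingKFlat.res R S).obj (ModuleCat.of S x'.asIdeal.ResidueField)) := by
  have hp : (q.map (algebraMap R S)).IsPrime := IsLocalization.isPrime_of_isPrime_disjoint T S q hq h
  have hc : q = (q.map (algebraMap R S)).comap (algebraMap R S) :=
    (IsLocalization.under_map_of_isPrime_disjoint T S hq h).symm
  have hb := (RingHom.surjectiveOnStalks_of_isLocalization (M := T) S).residueFieldMap_bijective q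
    (q.map (algebraMap R S)) hc
  refine ⟨⟨q.map (algebraMap R S), hp⟩, ⟨?_⟩⟩
  let f : q.ResidueField →+* (q.map (algebraMap R S)).ResidueField := Ideal.ResidueField.map q _ (algebraMap R S) hc
  letI : Module R (q.map (algebraMap R S)).ResidueField :=
    Module.compHom (q.map (algebraMap R S)).ResidueField (algebraMap R S)
  let g : q.ResidueField →ₗ[R] (q.map (algebraMap R S)).ResidueField :=
    { toFun := f
      map_add' := f.map_add
      map_smul' := fun r x => by
        have h1 : f (r • x) = f (algebraMap R _ r) * f x := by rw [Algebra.smul_def, map_mul]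
        rw [h1]
        have h2 : f (algebraMap R _ r) = algebraMap S _ (algebraMap R S r) :=
          Ideal.ResidueField.map_algebraMap q _ (algebraMap R S) hc r
        rw [h2, ← Algebra.smul_def]
        rfl }
  exact LinearEquiv.toModuleIso (X₁ := ModuleCat.of R q.ResidueField)
    (X₂ := (Groth.Agent.PerfB.RingKFlat.res R S).obj (ModuleCat.of S (q.map (algebraMap R S)).ResidueField))
    (LinearEquiv.ofBijective g hb)

/-- the standard resolution is a test complex -/
theorem isTest_Res (M : ModuleCat.{u} R) : IsTest ((K926.Res R).obj M) where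
  le := inferInstance
  flat := K926.flat_res_X M
  exact i hi := K926.res_exactAt M i hi

end point

section loc

variable {A B : NFᵒᵖ ⥤ CommRingCat.{u}} {j : A ⟶ B} {q : ℕ} [Fact q.Prime]

/-- the point of the localization under a point in characteristic `q` or `0` -/
theorem exists_res_point (h : IsLocHom (SZ q) j) (I : Ideal (A.obj (op ⟨0⟩))) [I.IsPrime]
    (hI : ∀ n : ℤ, n ∈ SZ q → (n : A.obj (op ⟨0⟩)) ∉ I) :
    ∃ x' : PrimeSpectrum (B.obj (op ⟨0⟩)),
      IsTest (extL j ((K926.Res (A.obj (op ⟨0⟩))).obj (ModuleCat.of _ I.ResidueField))) ∧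
      Nonempty ((extL j ((K926.Res (A.obj (op ⟨0⟩))).obj (ModuleCat.of _ I.ResidueField))).homology 0 ≅
        ModuleCat.of _ x'.asIdeal.ResidueField) := by
  letI := (jh j ⟨0⟩).toAlgebra
  haveI h0 : IsLocalization (Algebra.algebraMapSubmonoid (A.obj (op ⟨0⟩)) (SZ q)) (B.obj (op ⟨0⟩)) := h
  haveI : Module.Flat (A.obj (op ⟨0⟩)) (B.obj (op ⟨0⟩)) := h.flat
  have hd : Disjoint (Algebra.algebraMapSubmonoid (A.obj (op ⟨0⟩)) (SZ q) : Set (A.obj (op ⟨0⟩))) (I : Set _) := by
    rw [Set.disjoint_left]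
    rintro _ ⟨n, hn, rfl⟩ h2
    exact hI n hn (by simpa using h2)
  obtain ⟨x', ⟨e⟩⟩ := exists_point (S := B.obj (op ⟨0⟩)) _ I hd
  refine ⟨x', K408.isTest_extC (isTest_Res _), ?_⟩
  have := K926.quasiIso_aug (ModuleCat.of (A.obj (op ⟨0⟩)) I.ResidueField)
  obtain ⟨ε', hε'⟩ := K408.exists_extC_point (Algebra.algebraMapSubmonoid (A.obj (op ⟨0⟩)) (SZ q))
    (ModuleCat.of (B.obj (op ⟨0⟩)) x'.asIdeal.ResidueField)
    ((K926.Res (A.obj (op ⟨0⟩))).obj (ModuleCat.of (A.obj (op ⟨0⟩)) I.ResidueField))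
    (K926.aug (ModuleCat.of (A.obj (op ⟨0⟩)) I.ResidueField) ≫
      (single (ModuleCat.{u} (A.obj (op ⟨0⟩))) (ComplexShape.up ℤ) 0).map e.hom)
  have h3 : IsIso (homologyMap ε' 0) := inferInstance
  exact ⟨asIso (homologyMap ε' 0) ≪≫ singleObjHomologySelfIso (ComplexShape.up ℤ) 0 _⟩

end loc

section hq

theorem HitBy.mono {R : Type u} [CommRing R] {C : Type v} [Category.{w} C] [Abelian C] {us : C ⥤ ModuleCat.{u} R}
    [us.Additive] {L : CM R} {j : ℤ} {P P' : CochainComplex C ℤ → Prop} (hP : ∀ T, P T → P' T)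
    {Y : CochainComplex C ℤ} {y : (hh us L j).obj Y} (h : HitBy us L j P Y y) : HitBy us L j P' Y y := by
  obtain ⟨T, f, t, a, h1, h2, h3, h4⟩ := h
  exact ⟨T, f, t, a, h1, h2, hP T h3, h4⟩

variable {A : NFᵒᵖ ⥤ CommRingCat.{u}} [Fact (GR A)]

/-- the standard resolution of the residue field -/
noncomputable abbrev resK (I : Ideal (A.obj (op ⟨0⟩))) [I.IsPrime] : CM (A.obj (op ⟨0⟩)) :=
  (K926.Res (A.obj (op ⟨0⟩))).obj (ModuleCat.of _ I.ResidueField)

section

variable (q : ℕ) [Fact q.Prime] [Fact (GR (K944.lam (K209.Lb.{u} q) A))]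
  (hn : IsNoetherianRing ((K944.lam (K209.Lb.{u} q) A).obj (op ⟨0⟩)))
  (H : ∀ x, Arch.ResHit (chartF (K944.lam (K209.Lb.{u} q) A)) x)
  (I : Ideal (A.obj (op ⟨0⟩))) [I.IsPrime]
  (hI : ∀ n : ℤ, n ∈ SZ q → (n : A.obj (op ⟨0⟩)) ∉ I) (i : ℤ)

include hn H hI

omit [Fact (GR A)] [Fact (GR (K944.lam (K209.Lb.{u} q) A))] [I.IsPrime] in
omit hn H hI in
theorem isLocHom_Lb : IsLocHom (SZ q) (K944.jl (K209.Lb.{u} q) A) := by
  have h : @IsLocalization ℤ _ (SZ q) (K209.Lb.{u} q) _ (Ring.toIntAlgebra _) := by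
    have h1 := K209.lb_isLocalization.{u} q
    convert h1
    exact Subsingleton.elim _ _
  exact @isLocHom_jl A (SZ q) (K209.Lb.{u} q) _ h

omit [Fact (GR A)] in
theorem hitBy_lam (Y : CochainComplex (Comod (K944.lam (K209.Lb.{u} q) A)) ℤ) (hY : Bdd Y)
    (y : (hh (vst (K944.lam (K209.Lb.{u} q) A)) (extL (K944.jl (K209.Lb.{u} q) A) (resK I)) i).obj Y) :
    HitBy (vst (K944.lam (K209.Lb.{u} q) A)) (extL (K944.jl (K209.Lb.{u} q) A) (resK I)) i
      (fun T => ∀ n, Module.Finite ((K944.lam (K209.Lb.{u} q) A).obj (op ⟨0⟩))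
        (((vC (vst (K944.lam (K209.Lb.{u} q) A))).obj T).homology n)) Y y := by
  obtain ⟨x', hT, he⟩ := exists_res_point (isLocHom_Lb (A := A) q) I hI
  exact allHit_hitBy (chartF _) (vst _) (chartF_us _) _ (H x' _ hT he) i Y hY y

/-- **output 1** -/
theorem hq_of_resHit : Hq (vst A) (resK I) i q :=
  hq_of_loc (K944.cartHom_jl A) (isLocHom_Lb (A := A) q) _ i
    fun Y hY y => HitBy.mono (fun _ _ => trivial) (hitBy_lam q hn H I hI i Y hY y)

/-- **output 2** -/
theorem hqFg_of_resHit : HqFg (vst A) (resK I) i q :=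
  hqFg_of_loc (K944.cartHom_jl A) (isLocHom_Lb (A := A) q) _ i
    fun Y hY y => hitBy_lam q hn H I hI i Y hY y

end

omit [Fact (GR A)] in
theorem not_mem_of_charP (I : Ideal (A.obj (op ⟨0⟩))) [I.IsPrime] (p : ℕ) [Fact p.Prime] [_root_.CharP I.ResidueField p]
    (n : ℤ) (hn : n ∈ SZ p) : (n : A.obj (op ⟨0⟩)) ∉ I := by
  intro h
  have h1 : algebraMap (A.obj (op ⟨0⟩)) I.ResidueField (n : A.obj (op ⟨0⟩)) = 0 :=
    Ideal.algebraMap_residueField_eq_zero.2 h
  rw [map_intCast] at h1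
  have h2 := (CharP.intCast_eq_zero_iff I.ResidueField p n).1 h1
  have h3 := mem_SZ.1 hn
  rw [Nat.coprime_comm, (Fact.out : p.Prime).coprime_iff_not_dvd] at h3
  exact h3 (Int.natCast_dvd.1 h2)

omit [Fact (GR A)] in
theorem not_mem_of_charZero (I : Ideal (A.obj (op ⟨0⟩))) [I.IsPrime] [CharZero I.ResidueField] (p : ℕ) [Fact p.Prime]
    (n : ℤ) (hn : n ∈ SZ p) : (n : A.obj (op ⟨0⟩)) ∉ I := by
  intro h
  have h1 : algebraMap (A.obj (op ⟨0⟩)) I.ResidueField (n : A.obj (op ⟨0⟩)) = 0 :=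
    Ideal.algebraMap_residueField_eq_zero.2 h
  rw [map_intCast, Int.cast_eq_zero] at h1
  subst h1
  have h3 := mem_SZ.1 hn
  rw [Int.natAbs_zero, Nat.coprime_zero_left] at h3
  exact (Fact.out : p.Prime).one_lt.ne' h3

end hq

section top

theorem isNoetherianRing_of_GRZ {A : NFᵒᵖ ⥤ CommRingCat.{u}} (hA : GRZ A) : IsNoetherianRing (A.obj (op ⟨0⟩)) := by
  letI := (Int.castRingHom (A.obj (op ⟨0⟩))).toAlgebra
  have h1 : Algebra.FiniteType ℤ (A.obj (op ⟨0⟩)) := hA.ft
  exact Algebra.FiniteType.isNoetherianRing ℤ _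

/-- **`Arch.StmtOverZ` from the two steps of helper353** -/
theorem stmtOverZ_of_steps
    (hp : ∀ (A : NFᵒᵖ ⥤ CommRingCat.{u}) [Fact (GR A)], IsNoetherianRing (A.obj (op ⟨0⟩)) → StmtOverZp (vst A))
    (h0 : ∀ (A : NFᵒᵖ ⥤ CommRingCat.{u}) [Fact (GR A)], IsNoetherianRing (A.obj (op ⟨0⟩)) → StmtOverZ0 (vst A))
    (cp : ∀ (R : Type u) [CommRing R] (I : Ideal R) [I.IsPrime] (p : ℕ) [_root_.CharP I.ResidueField p],
      K353.CharP p ((K926.Res R).obj (ModuleCat.of R I.ResidueField)))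
    (c0 : ∀ (R : Type u) [CommRing R] (I : Ideal R) [I.IsPrime] [CharZero I.ResidueField],
      Char0 ((K926.Res R).obj (ModuleCat.of R I.ResidueField))) :
    Arch.StmtOverZ.{u} := by
  refine Arch.stmtOverZ_of fun A _ hA H => ?_
  haveI hN := isNoetherianRing_of_GRZ hA
  have hN' : ∀ (p : ℕ) [Fact p.Prime], IsNoetherianRing ((K944.lam (K209.Lb.{u} p) A).obj (op ⟨0⟩)) := by
    intro p _
    obtain ⟨g⟩ := (Arch.stmtLocGRF A hA).1 p
    haveI := K209.isLb.{u} p
    exact Arch.isNoetherianRing_of_grf (p := p) (K209.Lb.{u} p) _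
  have hG : ∀ (p : ℕ) [Fact p.Prime], Fact (GR (K944.lam (K209.Lb.{u} p) A)) := fun p _ => ⟨K944.gr_lam hA.toGR⟩
  refine K935.hit_of_out (X := chartF A) fun I _ j => ?_
  change Out (vst A) (resK I) j
  obtain ⟨c, hc⟩ := CharP.exists I.ResidueField
  rcases CharP.char_is_prime_or_zero I.ResidueField c with hcp | rfl
  · haveI : Fact c.Prime := ⟨hcp⟩
    haveI := hG c
    exact hp A hN _ j c hcp (isTest_Res _) (cp _ I c)
      (hq_of_resHit c (hN' c) (fun x => H c x) I (fun n hn => not_mem_of_charP I c n hn) j)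
  · haveI : CharZero I.ResidueField := CharP.charP_to_charZero _
    refine h0 A hN _ j 2 Nat.prime_two (isTest_Res _) (c0 _ I) ?_ ?_ K929.locFin_vst (spread_of_spreadT K417.spreadT)
    · intro q hq
      haveI : Fact q.Prime := ⟨hq⟩
      haveI := hG q
      exact hq_of_resHit q (hN' q) (fun x => H q x) I (fun n hn => not_mem_of_charZero I q n hn) j
    · haveI : Fact (Nat.Prime 2) := ⟨Nat.prime_two⟩
      haveI := hG 2
      exact hqFg_of_resHit 2 (hN' 2) (fun x => H 2 x) I (fun n hn => not_mem_of_charZero I 2 n hn) j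

end top

end Groth.Agent.ResProp.EF.K940
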